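import Mathlib
import Cfsg.Agent.Lib.Helper10.BR0

/-!
# S0999 (Brauer–Reynolds), piece BR-F2: `SL(2,F) ≃* PSL(2,F)` in characteristic 2
-/

set_option autoImplicit false

namespace Cfsg.Agent.Lib.Helper10.BR

/-- BR-F2 -/
theorem sl_equiv_psl (F : Type) [Field F] [Fintype F] (a : ℕ) (hF : Fintype.card F = 2 ^ a) :
    Nonempty (Matrix.SpecialLinearGroup (Fin 2) F ≃*
      Matrix.ProjectiveSpecialLinearGroup (Fin 2) F) := by
  -- characteristic 2
  have h2 : (2 : F) = 0 := by
    have h1 : ((Fintype.card F : ℕ) : F) = 0 := Nat.cast_card_eq_zero F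
    rw [hF, Nat.cast_pow, Nat.cast_ofNat] at h1
    exact eq_zero_of_pow_eq_zero h1
  -- the centre is trivial
  have hcen : Subgroup.center (Matrix.SpecialLinearGroup (Fin 2) F) = ⊥ := by
    rw [eq_bot_iff]
    intro A hA
    rw [Matrix.SpecialLinearGroup.mem_center_iff] at hA
    obtain ⟨r, hr, hrA⟩ := hA
    rw [Fintype.card_fin] at hr
    have hr1 : r = 1 := by
      have h3 : (r - 1) ^ 2 = 0 := by
        have h4 : (r - 1) ^ 2 = r ^ 2 - 2 * r + 1 := by ring
        rw [h4, hr, h2]
        ring_nf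
        rw [show (2 : F) = 0 from h2]
      have h5 : r - 1 = 0 := by
        rcases pow_eq_zero_iff (n := 2) (by norm_num) |>.mp h3 with h
        exact h
      exact sub_eq_zero.mp h5
    rw [Subgroup.mem_bot]
    apply Subtype.ext
    rw [← hrA, hr1, map_one]
    rfl
  exact ⟨(QuotientGroup.quotientBot (G := Matrix.SpecialLinearGroup (Fin 2) F)).symm.trans
    (QuotientGroup.quotientMulEquivOfEq hcen.symm)⟩

end Cfsg.Agent.Lib.Helper10.BR
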