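import Mathlib
import Cfsg.Agent.S0029
import Cfsg.Agent.S0012
import Cfsg.Agent.Lib.Helper1.Coprime
import Cfsg.Agent.Lib.Helper2.Frob
import Cfsg.Agent.Lib.Helper31.Basic
import Cfsg.Prelude.Def_OddOrderLocal
import Cfsg.Prelude.Def_Local
import Cfsg.Prelude.Def_CaseTheorems

set_option autoImplicit false
set_option linter.style.haveILetI false

namespace Cfsg.Agent.Lib.Helper78.MC

open Cfsg.Agent.Lib

/-- Metacyclicity passes along injective homomorphisms. -/
theorem isMetacyclic_of_inj {H R : Type*} [Group H] [Group R] (f : H →* R)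
    (hf : Function.Injective f) (hmc : Cfsg.IsMetacyclic R) : Cfsg.IsMetacyclic H := by
  obtain ⟨N, hN, hNc, hQc⟩ := hmc
  let φ : H →* R ⧸ N := (QuotientGroup.mk' N).comp f
  refine ⟨φ.ker, MonoidHom.normal_ker φ, ?_, ?_⟩
  · have hmem : ∀ x : ↥φ.ker, f (x : H) ∈ N := by
      intro x
      have h1 := x.2
      rw [MonoidHom.mem_ker] at h1
      exact (QuotientGroup.eq_one_iff _).mp h1
    let g : ↥φ.ker →* ↥N :=
      { toFun := fun x => ⟨f (x : H), hmem x⟩
        map_one' := by ext; simp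
        map_mul' := fun x y => by ext; simp }
    apply isCyclic_of_injective g
    intro x y hxy
    have h2 : f (x : H) = f (y : H) := congrArg (fun t : ↥N => (t : R)) hxy
    exact Subtype.ext (hf h2)
  · exact isCyclic_of_injective (QuotientGroup.kerLift φ) (QuotientGroup.kerLift_injective φ)

/-- The Frattini quotient of a metacyclic `p`-group has order at most `p ^ 2`. -/
theorem index_frattini_le_of_metacyclic {P : Type*} [Group P] [Finite P] (p : ℕ) [hp : Fact p.Prime]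
    (hP : IsPGroup p P) (hmc : Cfsg.IsMetacyclic P) : (frattini P).index ≤ p ^ 2 := by
  obtain ⟨M, hMn, hMc, hQc⟩ := hmc
  haveI := hMn
  obtain ⟨n, hn⟩ := hMc.exists_generator
  obtain ⟨a', ha'⟩ := hQc.exists_generator
  obtain ⟨a, rfl⟩ := QuotientGroup.mk_surjective a'
  have hgen : ∀ h : P, ∃ i j : ℤ, h = a ^ i * (n : P) ^ j := by
    intro h
    obtain ⟨i, hi⟩ := Subgroup.mem_zpowers_iff.mp (ha' (h : P ⧸ M))
    have h1 : (a ^ i)⁻¹ * h ∈ M := by
      apply (QuotientGroup.eq (s := M)).mp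
      rw [← hi]; rfl
    obtain ⟨j, hj⟩ := Subgroup.mem_zpowers_iff.mp (hn ⟨_, h1⟩)
    refine ⟨i, j, ?_⟩
    have h2 : ((n : P)) ^ j = (a ^ i)⁻¹ * h := by
      have h3 := congrArg Subtype.val hj
      simpa using h3
    rw [h2]; group
  obtain ⟨-, hpow⟩ := Cfsg.Agent.S0012.result p hP
  have hp0 : 0 < p := hp.out.pos
  let f : Fin p × Fin p → P ⧸ frattini P := fun ij =>
    (QuotientGroup.mk a : P ⧸ frattini P) ^ (ij.1 : ℕ) *
      (QuotientGroup.mk (n : P) : P ⧸ frattini P) ^ (ij.2 : ℕ)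
  have hsurj : Function.Surjective f := by
    intro v
    obtain ⟨h, rfl⟩ := QuotientGroup.mk_surjective v
    obtain ⟨i, j, rfl⟩ := hgen h
    have ha : (QuotientGroup.mk a : P ⧸ frattini P) ^ p = 1 := by
      rw [← QuotientGroup.mk_pow]; exact (QuotientGroup.eq_one_iff _).mpr (hpow a)
    have hn' : (QuotientGroup.mk (n : P) : P ⧸ frattini P) ^ p = 1 := by
      rw [← QuotientGroup.mk_pow]; exact (QuotientGroup.eq_one_iff _).mpr (hpow (n : P))
    have hpz : (p : ℤ) ≠ 0 := by exact_mod_cast hp0.ne'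
    have hi0 : 0 ≤ i % (p : ℤ) := Int.emod_nonneg i hpz
    have hj0 : 0 ≤ j % (p : ℤ) := Int.emod_nonneg j hpz
    have hi1 : i % (p : ℤ) < p := Int.emod_lt_of_pos i (by exact_mod_cast hp0)
    have hj1 : j % (p : ℤ) < p := Int.emod_lt_of_pos j (by exact_mod_cast hp0)
    refine ⟨(⟨(i % (p : ℤ)).toNat, by omega⟩, ⟨(j % (p : ℤ)).toNat, by omega⟩), ?_⟩
    show (QuotientGroup.mk a : P ⧸ frattini P) ^ ((i % (p : ℤ)).toNat) *
      (QuotientGroup.mk (n : P) : P ⧸ frattini P) ^ ((j % (p : ℤ)).toNat) = _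
    rw [QuotientGroup.mk_mul, QuotientGroup.mk_zpow, QuotientGroup.mk_zpow]
    rw [zpow_eq_zpow_emod' i ha, zpow_eq_zpow_emod' j hn']
    rw [← zpow_natCast, ← zpow_natCast, Int.toNat_of_nonneg hi0, Int.toNat_of_nonneg hj0]
  have hcard := Nat.card_le_card_of_surjective f hsurj
  rw [Subgroup.index_eq_card]
  calc Nat.card (P ⧸ frattini P) ≤ Nat.card (Fin p × Fin p) := hcard
    _ = p ^ 2 := by simp [sq]


/-- A `q`-element normalising a metacyclic `p`-subgroup centralises it, if `q` does not divide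
`p (p ^ 2 - 1)`. -/
theorem centralizes_of_metacyclic {G : Type*} [Group G] [Finite G] {p q : ℕ} [hp : Fact p.Prime]
    [hq : Fact q.Prime] (hqd : ¬ q ∣ p ^ 2 - 1) (hqp : q ≠ p)
    (Q : Subgroup G) (hQ : IsPGroup p Q) (hmc : Cfsg.IsMetacyclic ↥Q)
    (x : G) (hx : x ∈ Subgroup.normalizer (Q : Set G)) (k : ℕ) (hk : orderOf x = q ^ k) :
    x ∈ Subgroup.centralizer (Q : Set G) := by
  classical
  obtain ⟨Φ, hΦ⟩ : ∃ F : Subgroup G, F = (frattini ↥Q).map Q.subtype := ⟨_, rfl⟩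
  have hΦQ : Φ ≤ Q := by rw [hΦ]; exact Subgroup.map_subtype_le _
  have hnorm : Subgroup.normalizer (Q : Set G) ≤ Subgroup.normalizer (Φ : Set G) := by
    rw [hΦ]; exact Helper1.normalizer_le_normalizer_map_of_characteristic (frattini ↥Q)
  have hxΦ : ∀ z, z ∈ Φ ↔ x * z * x⁻¹ ∈ Φ := fun z => Subgroup.mem_normalizer_iff.mp (hnorm hx) z
  have hxΦ' : ∀ z, z ∈ Φ → x⁻¹ * z * x ∈ Φ := by
    intro z hz
    apply (hxΦ _).mpr
    have e : x * (x⁻¹ * z * x) * x⁻¹ = z := by group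
    rw [e]; exact hz
  have hQΦ : ∀ y ∈ Q, ∀ z, z ∈ Φ ↔ y * z * y⁻¹ ∈ Φ := fun y hy z =>
    Subgroup.mem_normalizer_iff.mp (hnorm (Subgroup.le_normalizer hy)) z
  have hxQ : ∀ z, z ∈ Q ↔ x * z * x⁻¹ ∈ Q := fun z => Subgroup.mem_normalizer_iff.mp hx z
  let D : Subgroup G :=
    { carrier := {y | y ∈ Q ∧ x * y * x⁻¹ * y⁻¹ ∈ Φ}
      one_mem' := ⟨Q.one_mem, by simp⟩
      mul_mem' := by
        rintro y z ⟨hy, hy'⟩ ⟨hz, hz'⟩
        refine ⟨Q.mul_mem hy hz, ?_⟩
        have e : x * (y * z) * x⁻¹ * (y * z)⁻¹ =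
            (x * y * x⁻¹ * y⁻¹) * (y * (x * z * x⁻¹ * z⁻¹) * y⁻¹) := by group
        rw [e]; exact Φ.mul_mem hy' ((hQΦ y hy _).mp hz')
      inv_mem' := by
        rintro y ⟨hy, hy'⟩
        refine ⟨Q.inv_mem hy, ?_⟩
        have e : x * y⁻¹ * x⁻¹ * y⁻¹⁻¹ = y⁻¹ * (x * y * x⁻¹ * y⁻¹)⁻¹ * y⁻¹⁻¹ := by group
        rw [e]; exact (hQΦ y⁻¹ (Q.inv_mem hy) _).mp (Φ.inv_mem hy') }
  have hDmem : ∀ y, y ∈ D ↔ y ∈ Q ∧ x * y * x⁻¹ * y⁻¹ ∈ Φ := fun y => Iff.rfl
  have hDQ : D ≤ Q := fun y hy => hy.1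
  have hΦD : Φ ≤ D := by
    intro z hz
    exact ⟨hΦQ hz, Φ.mul_mem ((hxΦ z).mp hz) (Φ.inv_mem hz)⟩
  have hDx : ∀ w, x * w * x⁻¹ ∈ D → w ∈ D := by
    intro w hw
    obtain ⟨hw1, hw2⟩ := (hDmem _).mp hw
    refine (hDmem _).mpr ⟨(hxQ w).mpr hw1, ?_⟩
    have e : x * w * x⁻¹ * w⁻¹ = x⁻¹ * (x * (x * w * x⁻¹) * x⁻¹ * (x * w * x⁻¹)⁻¹) * x := by group
    rw [e]; exact hxΦ' _ hw2
  -- cardinalities
  obtain ⟨n, hn⟩ := hQ.exists_card_eq
  have hDdvd : Nat.card D ∣ p ^ n := hn ▸ Subgroup.card_dvd_of_le hDQ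
  obtain ⟨m, hmn, hm⟩ := (Nat.dvd_prime_pow hp.out).mp hDdvd
  have hΦcard : Nat.card Φ = Nat.card (frattini ↥Q) := by
    rw [hΦ]; exact Subgroup.card_map_of_injective Q.subtype_injective
  have hidx := index_frattini_le_of_metacyclic p hQ hmc
  have hmul : Nat.card (frattini ↥Q) * (frattini ↥Q).index = Nat.card ↥Q :=
    Subgroup.card_mul_index _
  have hΦle : Nat.card Φ ≤ Nat.card D := Subgroup.card_le_of_le hΦD
  have hp1 : 1 < p := hp.out.one_lt
  have hnm : n ≤ m + 2 := by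
    have h1 : p ^ n ≤ p ^ (m + 2) := by
      calc p ^ n = Nat.card (frattini ↥Q) * (frattini ↥Q).index := by rw [hmul, hn]
        _ ≤ p ^ m * p ^ 2 := Nat.mul_le_mul (by rw [← hΦcard, ← hm]; exact hΦle) hidx
        _ = p ^ (m + 2) := by rw [pow_add]
    exact (Nat.pow_le_pow_iff_right hp1).mp h1
  -- the fixed-point-free permutation
  have hDeq : D = Q := by
    by_contra hne
    have hmlt : m < n := by
      rcases Nat.lt_or_ge m n with h | h
      · exact h
      · exfalso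
        apply hne
        apply Subgroup.eq_of_le_of_card_ge hDQ
        rw [hn, hm]
        exact Nat.pow_le_pow_right hp.out.pos h
    let α := ↥((Q : Set G) \ (D : Set G))
    haveI : Fintype α := Fintype.ofFinite α
    have hxQ' : ∀ z, z ∈ Q → x⁻¹ * z * x ∈ Q := by
      intro z hz
      apply (hxQ _).mpr
      have e : x * (x⁻¹ * z * x) * x⁻¹ = z := by group
      rw [e]; exact hz
    let σ : Equiv.Perm α :=
      { toFun := fun y => ⟨x * y.1 * x⁻¹, (hxQ _).mp y.2.1, fun h => y.2.2 (hDx _ h)⟩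
        invFun := fun y => ⟨x⁻¹ * y.1 * x, hxQ' _ y.2.1, fun h => y.2.2 (by
          have e : y.1 = x * (x⁻¹ * y.1 * x) * x⁻¹ := by group
          have h' : x * (x⁻¹ * y.1 * x) * x⁻¹ ∈ D := by
            obtain ⟨h1, h2⟩ := (hDmem _).mp h
            refine (hDmem _).mpr ⟨(hxQ _).mp h1, ?_⟩
            have e2 : x * (x * (x⁻¹ * y.1 * x) * x⁻¹) * x⁻¹ * (x * (x⁻¹ * y.1 * x) * x⁻¹)⁻¹ =
                x * (x * (x⁻¹ * y.1 * x) * x⁻¹ * (x⁻¹ * y.1 * x)⁻¹) * x⁻¹ := by group
            rw [e2]; exact (hxΦ _).mp h2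
          rw [e]; exact h')⟩
        left_inv := fun y => by
          apply Subtype.ext
          show x⁻¹ * (x * y.1 * x⁻¹) * x = y.1
          group
        right_inv := fun y => by
          apply Subtype.ext
          show x * (x⁻¹ * y.1 * x) * x⁻¹ = y.1
          group }
    have hσpow : ∀ (i : ℕ) (y : α), ((σ ^ i) y).1 = x ^ i * y.1 * (x ^ i)⁻¹ := by
      intro i
      induction i with
      | zero => intro y; simp
      | succ i ih =>
        intro y
        rw [pow_succ, Equiv.Perm.mul_apply, ih]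
        show x ^ i * (x * y.1 * x⁻¹) * (x ^ i)⁻¹ = _
        rw [pow_succ]; group
    have hσ : σ ^ q ^ k = 1 := by
      ext y
      rw [hσpow, ← hk, pow_orderOf_eq_one]
      simp
    have hdvd : q ∣ Fintype.card α := by
      by_contra hnd
      obtain ⟨y, hy⟩ := Equiv.Perm.exists_fixed_point_of_prime hnd hσ
      have hy' : x * y.1 * x⁻¹ = y.1 := congrArg Subtype.val hy
      apply y.2.2
      refine (hDmem _).mpr ⟨y.2.1, ?_⟩
      rw [hy', mul_inv_cancel]; exact Φ.one_mem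
    have hcardα : Fintype.card α = p ^ n - p ^ m := by
      rw [← Nat.card_eq_fintype_card, _root_.Nat.card_coe_set_eq]
      have h1 := Set.ncard_sdiff_add_ncard_of_subset (s := (D : Set G)) (t := (Q : Set G)) hDQ
      have h2 : (Q : Set G).ncard = p ^ n := by
        rw [← hn]; exact (_root_.Nat.card_coe_set_eq _).symm
      have h3 : (D : Set G).ncard = p ^ m := by
        rw [← hm]; exact (_root_.Nat.card_coe_set_eq _).symm
      omega
    rw [hcardα] at hdvd
    have hqp' : ¬ q ∣ p := fun h => hqp ((Nat.prime_dvd_prime_iff_eq hq.out hp.out).mp h)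
    have hqpm : ¬ q ∣ p ^ m := fun h => hqp' (hq.out.dvd_of_dvd_pow h)
    have hcases : n = m + 1 ∨ n = m + 2 := by omega
    rcases hcases with h | h
    · have e : p ^ n - p ^ m = p ^ m * (p - 1) := by
        rw [h, pow_succ, Nat.mul_sub, mul_one]
      rw [e] at hdvd
      rcases (Nat.Prime.dvd_mul hq.out).mp hdvd with h' | h'
      · exact hqpm h'
      · apply hqd
        have e2 : p ^ 2 - 1 = (p - 1) * (p + 1) := by
          obtain ⟨c, rfl⟩ : ∃ c, p = c + 1 := ⟨p - 1, by omega⟩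
          simp only [Nat.add_sub_cancel]
          have e3 : (c + 1) ^ 2 = c * (c + 1 + 1) + 1 := by ring
          rw [e3, Nat.add_sub_cancel]
        rw [e2]; exact Dvd.dvd.mul_right h' _
    · have e : p ^ n - p ^ m = p ^ m * (p ^ 2 - 1) := by
        rw [h, pow_add, Nat.mul_sub, mul_one]
      rw [e] at hdvd
      rcases (Nat.Prime.dvd_mul hq.out).mp hdvd with h' | h'
      · exact hqpm h'
      · exact hqd h'
  -- conclusion via the Frattini quotient
  let T : Subgroup G :=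
    { carrier := {a | a ∈ Subgroup.normalizer (Q : Set G) ∧ ∀ y ∈ Q, a * y * a⁻¹ * y⁻¹ ∈ Φ}
      one_mem' := ⟨Subgroup.one_mem _, fun y _ => by simp⟩
      mul_mem' := by
        rintro a b ⟨ha, ha'⟩ ⟨hb, hb'⟩
        refine ⟨Subgroup.mul_mem _ ha hb, fun y hy => ?_⟩
        have e : a * b * y * (a * b)⁻¹ * y⁻¹ = a * (b * y * b⁻¹ * y⁻¹) * a⁻¹ * (a * y * a⁻¹ * y⁻¹) := by
          group
        rw [e]
        exact Φ.mul_mem ((Subgroup.mem_normalizer_iff.mp (hnorm ha) _).mp (hb' y hy)) (ha' y hy)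
      inv_mem' := by
        rintro a ⟨ha, ha'⟩
        refine ⟨Subgroup.inv_mem _ ha, fun y hy => ?_⟩
        have e : a⁻¹ * y * a⁻¹⁻¹ * y⁻¹ = a⁻¹ * (a * y * a⁻¹ * y⁻¹)⁻¹ * a⁻¹⁻¹ := by group
        rw [e]
        exact (Subgroup.mem_normalizer_iff.mp (hnorm (Subgroup.inv_mem _ ha)) _).mp
          (Φ.inv_mem (ha' y hy)) }
  have hxT : x ∈ T := by
    refine ⟨hx, fun y hy => ?_⟩
    have : y ∈ D := by rw [hDeq]; exact hy
    exact this.2
  have hzT : Subgroup.zpowers x ≤ T := Subgroup.zpowers_le.mpr hxT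
  have hcop : (Nat.card (Subgroup.zpowers x)).Coprime (Nat.card (frattini ↥Q)) := by
    rw [Nat.card_zpowers, hk]
    have h1 : Nat.card (frattini ↥Q) ∣ p ^ n := hn ▸ Subgroup.card_subgroup_dvd_card _
    exact Nat.Coprime.coprime_dvd_right h1
      (Nat.Coprime.pow k n ((Nat.coprime_primes hq.out hp.out).mpr hqp))
  have hres := Cfsg.Agent.S0029.result (Subgroup.zpowers x) Q (Subgroup.zpowers_le.mpr hx) hcop
    (by
      intro a ha y hy
      rw [← hΦ]
      exact (hzT ha).2 y hy)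
  exact hres (Subgroup.mem_zpowers x)


/-- If `|G / O_{p',p}(G)|` is coprime to `p ^ 2 - 1` and the Sylow `p`-subgroups are metacyclic,
Frobenius' condition holds. -/
theorem frobCond_of_coprime {G : Type*} [Group G] [Finite G] (p : ℕ) [hp : Fact p.Prime]
    (S : Sylow p G) (hS : Cfsg.IsMetacyclic ↥(S : Subgroup G))
    (hc : Nat.Coprime (Nat.card (G ⧸ Cfsg.pPrimePCore p G)) (p ^ 2 - 1)) : Helper2.FrobCond S := by
  intro Q hQS
  have hQp : IsPGroup p Q := S.isPGroup'.to_le hQS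
  have hQmc : Cfsg.IsMetacyclic ↥Q :=
    isMetacyclic_of_inj (Subgroup.inclusion hQS) (Subgroup.inclusion_injective hQS) hS
  have hpp : ∀ (q : ℕ), q.Prime → q ≠ p → ∀ (k : ℕ) (g : G),
      g ∈ Subgroup.normalizer (Q : Set G) → orderOf g = q ^ k →
      g ∈ Subgroup.centralizer (Q : Set G) := by
    intro q hq hqp k g hg hk
    haveI : Fact q.Prime := ⟨hq⟩
    by_cases hqd : q ∣ p ^ 2 - 1
    · haveI hKn : (Cfsg.pPrimePCore p G).Normal := by
        unfold Cfsg.pPrimePCore; infer_instance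
      have hcq : Nat.Coprime (Nat.card (G ⧸ Cfsg.pPrimePCore p G)) (q ^ k) :=
        Nat.Coprime.pow_right k (Nat.Coprime.coprime_dvd_right hqd hc)
      have hgK : g ∈ Cfsg.pPrimePCore p G := by
        have h1 : orderOf (QuotientGroup.mk' (Cfsg.pPrimePCore p G) g) ∣ q ^ k :=
          hk ▸ orderOf_map_dvd _ g
        have h2 : orderOf (QuotientGroup.mk' (Cfsg.pPrimePCore p G) g) ∣
            Nat.card (G ⧸ Cfsg.pPrimePCore p G) := orderOf_dvd_natCard _
        have h3 : orderOf (QuotientGroup.mk' (Cfsg.pPrimePCore p G) g) = 1 :=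
          Nat.eq_one_of_dvd_coprimes hcq h2 h1
        exact (QuotientGroup.eq_one_iff g).mp (orderOf_eq_one_iff.mp h3)
      have hgL : g ∈ Cfsg.pPrimeCore p G := by
        have h0 : QuotientGroup.mk' (Cfsg.pPrimeCore p G) g ∈
            Cfsg.pCore p (G ⧸ Cfsg.pPrimeCore p G) := hgK
        have hpc : IsPGroup p ↥(Cfsg.pCore p (G ⧸ Cfsg.pPrimeCore p G)) :=
          Helper31.pCore_isPGroup p
        obtain ⟨j, hj⟩ := (IsPGroup.iff_orderOf.mp hpc) ⟨_, h0⟩
        rw [Subgroup.orderOf_mk] at hj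
        have h1 : orderOf (QuotientGroup.mk' (Cfsg.pPrimeCore p G) g) ∣ q ^ k :=
          hk ▸ orderOf_map_dvd _ g
        have h3 : orderOf (QuotientGroup.mk' (Cfsg.pPrimeCore p G) g) = 1 := by
          have hcop : Nat.Coprime (p ^ j) (q ^ k) :=
            Nat.Coprime.pow j k ((Nat.coprime_primes hp.out hq).mpr (Ne.symm hqp))
          exact Nat.eq_one_of_dvd_coprimes hcop (hj ▸ dvd_rfl) h1
        exact (QuotientGroup.eq_one_iff g).mp (orderOf_eq_one_iff.mp h3)
      rw [Subgroup.mem_centralizer_iff]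
      intro y hy
      have hcL : g * y * g⁻¹ * y⁻¹ ∈ Cfsg.pPrimeCore p G := by
        have e : g * y * g⁻¹ * y⁻¹ = g * (y * g⁻¹ * y⁻¹) := by group
        rw [e]
        exact Subgroup.mul_mem _ hgL
          ((Cfsg.pPrimeCore_normal p G).conj_mem _ (Subgroup.inv_mem _ hgL) y)
      have hcQ : g * y * g⁻¹ * y⁻¹ ∈ Q :=
        Q.mul_mem ((Subgroup.mem_normalizer_iff.mp hg y).mp hy) (Q.inv_mem hy)
      obtain ⟨j, hj⟩ := (IsPGroup.iff_orderOf.mp hQp) ⟨_, hcQ⟩
      rw [Subgroup.orderOf_mk] at hj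
      have h2 : orderOf (g * y * g⁻¹ * y⁻¹) ∣ Nat.card (Cfsg.pPrimeCore p G) :=
        Subgroup.orderOf_dvd_natCard _ hcL
      have h3 : orderOf (g * y * g⁻¹ * y⁻¹) = 1 := by
        have hcop : Nat.Coprime (Nat.card (Cfsg.pPrimeCore p G)) (p ^ j) :=
          Nat.Coprime.pow_right j (Helper31.pPrimeCore_coprime p)
        exact Nat.eq_one_of_dvd_coprimes hcop h2 (hj ▸ dvd_rfl)
      have h4 : g * y * g⁻¹ * y⁻¹ = 1 := orderOf_eq_one_iff.mp h3
      have e : y * g = (g * y * g⁻¹ * y⁻¹)⁻¹ * (g * y) := by group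
      rw [e, h4, inv_one, one_mul]
    · exact centralizes_of_metacyclic hqd hqp Q hQp hQmc g hg k hk
  have hgen : ∀ (n : ℕ) (g : G), g ∈ Subgroup.normalizer (Q : Set G) → orderOf g = n →
      Nat.Coprime n p → g ∈ Subgroup.centralizer (Q : Set G) := by
    intro n
    induction n using Nat.strong_induction_on with
    | _ n ih =>
      intro g hg hn hcop
      by_cases hn1 : n = 1
      · have : g = 1 := orderOf_eq_one_iff.mp (hn.trans hn1)
        rw [this]; exact Subgroup.one_mem _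
      · have hn0 : n ≠ 0 := by rw [← hn]; exact (orderOf_pos g).ne'
        obtain ⟨q, hq, hqn⟩ := Nat.exists_prime_and_dvd hn1
        obtain ⟨k, m, hm, hkm⟩ := Nat.exists_eq_pow_mul_and_not_dvd hn0 q hq.ne_one
        have hqp : q ≠ p := by
          rintro rfl
          exact (Nat.Prime.coprime_iff_not_dvd hq).mp hcop.symm hqn
        by_cases hm1 : m = 1
        · exact hpp q hq hqp k g hg (by rw [hn, hkm, hm1, mul_one])
        · have hk0 : k ≠ 0 := by
            rintro rfl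
            apply hm
            rw [hkm, pow_zero, one_mul] at hqn
            exact hqn
          have hm0 : m ≠ 0 := by
            rintro rfl
            exact hn0 (by rw [hkm, mul_zero])
          have hqk2 : 2 ≤ q ^ k := by
            calc 2 ≤ q := hq.two_le
              _ = q ^ 1 := (pow_one q).symm
              _ ≤ q ^ k := Nat.pow_le_pow_right hq.pos (Nat.one_le_iff_ne_zero.mpr hk0)
          have hm2 : 2 ≤ m := by omega
          have hmlt : m < n := by
            rw [hkm]; nlinarith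
          have hqlt : q ^ k < n := by
            rw [hkm]; nlinarith
          have hqk0 : q ^ k ≠ 0 := by positivity
          have hcopm : Nat.Coprime m p :=
            Nat.Coprime.coprime_dvd_left (hkm ▸ Dvd.intro_left _ rfl) hcop
          have hcopq : Nat.Coprime (q ^ k) p :=
            Nat.Coprime.coprime_dvd_left (hkm ▸ Dvd.intro _ rfl) hcop
          have ho1 : orderOf (g ^ (q ^ k)) = m := by
            rw [orderOf_pow_of_dvd hqk0 (hn ▸ hkm ▸ Dvd.intro _ rfl), hn, hkm]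
            exact Nat.mul_div_cancel_left m (by positivity)
          have ho2 : orderOf (g ^ m) = q ^ k := by
            rw [orderOf_pow_of_dvd hm0 (hn ▸ hkm ▸ Dvd.intro_left _ rfl), hn, hkm]
            exact Nat.mul_div_cancel (q ^ k) (by omega)
          have h1 := ih m hmlt (g ^ (q ^ k)) (Subgroup.pow_mem _ hg _) ho1 hcopm
          have h2 := ih (q ^ k) hqlt (g ^ m) (Subgroup.pow_mem _ hg _) ho2 hcopq
          have hcop2 : Nat.Coprime (q ^ k) m :=
            Nat.Coprime.pow_left k ((Nat.Prime.coprime_iff_not_dvd hq).mpr hm)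
          have hbez : ((q ^ k : ℕ) : ℤ) * Nat.gcdA (q ^ k) m + (m : ℤ) * Nat.gcdB (q ^ k) m = 1 := by
            have := Nat.gcd_eq_gcd_ab (q ^ k) m
            rw [hcop2] at this
            exact_mod_cast this.symm
          have hg_eq : g = (g ^ (q ^ k)) ^ (Nat.gcdA (q ^ k) m) * (g ^ m) ^ (Nat.gcdB (q ^ k) m) := by
            rw [← zpow_natCast g (q ^ k), ← zpow_natCast g m, ← zpow_mul, ← zpow_mul, ← zpow_add,
              hbez, zpow_one]
          rw [hg_eq]
          exact Subgroup.mul_mem _ (Subgroup.zpow_mem _ h1 _) (Subgroup.zpow_mem _ h2 _)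
  intro g hg hcop
  exact hgen _ g hg rfl hcop

/-- A `p`-nilpotent group equals its `O_{p',p}`. -/
theorem pPrimePCore_eq_top_of_pnilp {G : Type*} [Group G] [Finite G] (p : ℕ) [hp : Fact p.Prime]
    (h : Cfsg.HasNormalPComplement p G) : Cfsg.pPrimePCore p G = ⊤ := by
  obtain ⟨P, N, hN, hc⟩ := h
  have h1 : (P : Subgroup G).index = Nat.card N := hc.index_eq_card
  have h2 : N.index = Nat.card (P : Subgroup G) := hc.symm.index_eq_card
  have hNcop : (Nat.card N).Coprime p := by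
    rw [← h1]
    exact ((Nat.Prime.coprime_iff_not_dvd hp.out).mpr P.not_dvd_index).symm
  have hNL : N ≤ Cfsg.pPrimeCore p G := Helper31.le_pPrimeCore hN hNcop
  have hGL : IsPGroup p (G ⧸ Cfsg.pPrimeCore p G) := by
    obtain ⟨k, hk⟩ := P.isPGroup'.exists_card_eq
    have h3 : (Cfsg.pPrimeCore p G).index ∣ p ^ k := by
      have h4 : (Cfsg.pPrimeCore p G).index ∣ N.index := Subgroup.index_dvd_of_le hNL
      rw [h2] at h4
      exact hk ▸ h4
    obtain ⟨j, -, hj⟩ := (Nat.dvd_prime_pow hp.out).mp h3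
    exact IsPGroup.of_card (n := j) (by rw [← Subgroup.index_eq_card]; exact hj)
  have htop : Cfsg.pCore p (G ⧸ Cfsg.pPrimeCore p G) = ⊤ := by
    apply top_unique
    apply Helper31.le_pCore (inferInstance : (⊤ : Subgroup (G ⧸ Cfsg.pPrimeCore p G)).Normal)
    exact hGL.to_subgroup _
  unfold Cfsg.pPrimePCore
  rw [htop]
  exact Subgroup.comap_top _

end Cfsg.Agent.Lib.Helper78.MC
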