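import Cfsg.Agent.Lib.Helper41.TW3

/-!
# Thompson–Wielandt pieces: the Frattini-type lemma `lemma_fr` (piece FR of S5752)
-/

set_option autoImplicit false

namespace Cfsg.Agent.Lib.Helper78.TWP

open Cfsg Cfsg.Agent.Lib.Helper66 Cfsg.Agent.Lib.Helper41.TW

variable {G : Type*} [Group G] [Finite G] {X Y A1 B1 A2 B2 : Subgroup G}

theorem lemma_fr {p q : ℕ} (hp : p.Prime) (hq : q.Prime) (hpq : p ≠ q) {Q R B : Subgroup G}
    (hQ : IsPGroup q Q) (hR : IsPGroup p R) (hQB : Q ≤ B)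
    (hQR : Q ≤ Subgroup.normalizer (R : Set G)) (hRB : R ≤ Subgroup.normalizer (B : Set G))
    {r : G} (hr : r ∈ R) : ∃ w ∈ R ⊓ B, w⁻¹ * r ∈ Subgroup.normalizer (Q : Set G) := by
  classical
  have : Fact q.Prime := ⟨hq⟩
  have : Fact p.Prime := ⟨hp⟩
  have hQD : Q ≤ Subgroup.normalizer ((R ⊓ B : Subgroup G) : Set G) :=
    inf_le_normalizer_inf hQR (hQB.trans Subgroup.le_normalizer)
  -- conjugates of elements of `Q` by `r` lie in `Q ⊔ (R ⊓ B)`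
  have hconj : ∀ c ∈ Q, r * c * r⁻¹ ∈ Q ⊔ (R ⊓ B) := by
    intro c hc
    have h1 : r * c * r⁻¹ * c⁻¹ ∈ R := by
      have h2 : c * r⁻¹ * c⁻¹ ∈ R := conj_mem (hQR hc) (R.inv_mem hr)
      have h3 : r * c * r⁻¹ * c⁻¹ = r * (c * r⁻¹ * c⁻¹) := by group
      rw [h3]
      exact R.mul_mem hr h2
    have h4 : r * c * r⁻¹ * c⁻¹ ∈ B :=
      B.mul_mem (conj_mem (hRB hr) (hQB hc)) (B.inv_mem (hQB hc))
    have h5 : r * c * r⁻¹ = (r * c * r⁻¹ * c⁻¹) * c := by group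
    rw [h5]
    exact Subgroup.mul_mem _ (Subgroup.mem_sup_right ⟨h1, h4⟩) (Subgroup.mem_sup_left hc)
  have hQ'M : Q.map (MulAut.conj r).toMonoidHom ≤ Q ⊔ (R ⊓ B) := by
    intro x hx
    rw [Cfsg.Agent.Lib.Helper41.mem_map_conj_iff] at hx
    have := hconj _ hx
    have h6 : r * (r⁻¹ * x * r) * r⁻¹ = x := by group
    rwa [h6] at this
  have hQ' : IsPGroup q (Q.map (MulAut.conj r).toMonoidHom) := hQ.map _
  have hidx : ¬ q ∣ Q.relIndex (Q ⊔ (R ⊓ B)) := by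
    rw [Cfsg.Agent.Lib.Helper41.relIndex_sup_of_le_normalizer Q (R ⊓ B) hQD]
    intro hdvd
    have hD : IsPGroup p (R ⊓ B : Subgroup G) := hR.to_le inf_le_left
    obtain ⟨k, hk⟩ := IsPGroup.iff_card.mp hD
    have h7 : q ∣ p ^ k := hk ▸ (hdvd.trans (Subgroup.relIndex_dvd_card Q (R ⊓ B)))
    exact hpq ((Nat.prime_dvd_prime_iff_eq hq hp).mp (hq.dvd_of_dvd_pow h7)).symm
  obtain ⟨m, hmM, hm⟩ := Cfsg.Agent.Lib.Helper41.exists_conj_le_of_not_dvd_relIndex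
    (Q ⊔ (R ⊓ B)) Q (Q.map (MulAut.conj r).toMonoidHom) hQ hidx hQ'M hQ'
  obtain ⟨c₀, hc₀, d, hd, rfl⟩ :=
    Cfsg.Agent.Lib.Helper41.exists_mul_of_mem_sup_left Q (R ⊓ B) hQD hmM
  refine ⟨d⁻¹, Subgroup.inv_mem _ hd, ?_⟩
  rw [inv_inv]
  apply Subgroup.mem_normalizer_fintype
  intro c hc
  have hc' : c ∈ Q := hc
  have hx : r * c * r⁻¹ ∈ Q.map (MulAut.conj r).toMonoidHom := by
    rw [Cfsg.Agent.Lib.Helper41.mem_map_conj_iff]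
    have h8 : r⁻¹ * (r * c * r⁻¹) * r = c := by group
    rw [h8]; exact hc'
  have h9 := hm _ hx
  have h10 : c₀⁻¹ * (c₀ * d * (r * c * r⁻¹) * (c₀ * d)⁻¹) * c₀ ∈ Q :=
    Q.mul_mem (Q.mul_mem (Q.inv_mem hc₀) h9) hc₀
  have h11 : c₀⁻¹ * (c₀ * d * (r * c * r⁻¹) * (c₀ * d)⁻¹) * c₀ = d * r * c * (d * r)⁻¹ := by
    group
  rw [h11] at h10
  exact h10

end Cfsg.Agent.Lib.Helper78.TWP
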