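import Mathlib
import Cfsg.Agent.Lib.Helper48.RCBase

/-! Project RC (helper48, S1152/S1157), piece RC-CJMEM: the centraliser of `J = H (-1)`. -/

set_option autoImplicit false
set_option linter.unusedSectionVars false

namespace Cfsg.Agent.Lib.Helper48.RC

variable {F : Type*} [Field F] [Finite F] [CharP F 3] {G : Type*} [Group G] [Finite G]
variable {θ : F →+* F} {T : F → F → F → G} {H : Fˣ → G} {w : G}

private theorem cjmem_JT (h : Ok0 θ T H w) (a b c : F) :
    H (-1) * T a b c = T (-a) b (-c) * H (-1) := by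
  rw [h.HT]
  congr 1
  apply T_congr <;> simp [Units.val_neg]

private theorem cjmem_JH (h : Ok0 θ T H w) (s : Fˣ) : H (-1) * H s = H s * H (-1) := by
  rw [← h.H_mul, ← h.H_mul, mul_comm]

private theorem cjmem_Jw (h : Ok0 θ T H w) : H (-1) * w = w * H (-1) := by
  have e := h.wH (-1)
  have e1 : ((-1 : Fˣ))⁻¹ = -1 := by simp
  rw [e1] at e
  calc H (-1) * w = (w * H (-1) * w) * w := by rw [e]
    _ = w * H (-1) * (w * w) := by group
    _ = w * H (-1) := by rw [h.w_sq, mul_one]

-- piece RC-CJMEM
theorem centralizer_mem (h : Ok0 θ T H w) (g : G) :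
    g ∈ Subgroup.centralizer {H (-1)} ↔
      (∃ (b : F) (s : Fˣ), g = T 0 b 0 * H s) ∨
      ∃ (b b' : F) (s : Fˣ), g = T 0 b 0 * w * (T 0 b' 0 * H s) := by
  have h3 : (3 : F) = 0 := three_eq_zero
  have hz : ∀ a : F, -a = a → a = 0 := fun a ha => by linear_combination ha + a * h3
  have hJT0 : ∀ b : F, H (-1) * T 0 b 0 = T 0 b 0 * H (-1) := by
    intro b
    rw [cjmem_JT h]
    congr 1
    exact T_congr (by simp) rfl (by simp)
  rw [Subgroup.mem_centralizer_iff]
  constructor
  · intro hg
    have hJ : H (-1) * g = g * H (-1) := hg _ rfl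
    rcases h.cases g with ⟨a, b, c, s, rfl⟩ | ⟨a, b, c, a', b', c', s, rfl⟩
    · left
      have e : T (-a) b (-c) * H s * H (-1) = T a b c * H s * H (-1) := by
        calc T (-a) b (-c) * H s * H (-1) = T (-a) b (-c) * (H (-1) * H s) := by
              rw [cjmem_JH h]; group
          _ = (T (-a) b (-c) * H (-1)) * H s := by group
          _ = (H (-1) * T a b c) * H s := by rw [cjmem_JT h]
          _ = H (-1) * (T a b c * H s) := by group
          _ = T a b c * H s * H (-1) := hJ
      have e2 : T (-a) b (-c) = T a b c := mul_right_cancel (mul_right_cancel e)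
      obtain ⟨ha, -, hc⟩ := h.T_inj _ _ _ _ _ _ e2
      have ha0 := hz a ha
      have hc0 := hz c hc
      subst ha0
      subst hc0
      exact ⟨b, s, rfl⟩
    · right
      have e : T (-a) b (-c) * w * (T (-a') b' (-c') * H s)
          = T a b c * w * (T a' b' c' * H s) := by
        have e0 : H (-1) * (T a b c * w * (T a' b' c' * H s))
            = T (-a) b (-c) * w * (T (-a') b' (-c') * H s) * H (-1) := by
          calc H (-1) * (T a b c * w * (T a' b' c' * H s))
              = (H (-1) * T a b c) * w * (T a' b' c' * H s) := by group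
            _ = T (-a) b (-c) * (H (-1) * w) * (T a' b' c' * H s) := by
                rw [cjmem_JT h]; group
            _ = T (-a) b (-c) * w * ((H (-1) * T a' b' c') * H s) := by
                rw [cjmem_Jw h]; group
            _ = T (-a) b (-c) * w * (T (-a') b' (-c') * (H (-1) * H s)) := by
                rw [cjmem_JT h]; group
            _ = T (-a) b (-c) * w * (T (-a') b' (-c') * H s) * H (-1) := by
                rw [cjmem_JH h]; group
        rw [hJ] at e0
        exact (mul_right_cancel e0).symm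
      obtain ⟨x, y, z, hxyz⟩ :=
        h.Qs.mul_mem (h.Qs.inv_mem (h.T_mem a b c)) (h.T_mem (-a) b (-c))
      obtain ⟨x', y', z', s', hB⟩ :=
        h.Bs.mul_mem (h.TH_mem (-a') b' (-c') s) (h.Bs.inv_mem (h.TH_mem a' b' c' s))
      have e3 : T x y z * w * (T x' y' z' * H s') = w := by
        rw [← hxyz, ← hB]
        have e3' : (T a b c)⁻¹ * T (-a) b (-c) * w *
            (T (-a') b' (-c') * H s * (T a' b' c' * H s)⁻¹)
            = (T a b c)⁻¹ * (T (-a) b (-c) * w * (T (-a') b' (-c') * H s)) *
              (T a' b' c' * H s)⁻¹ := by group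
        rw [e3', e]
        group
      obtain ⟨rfl, rfl, rfl⟩ := h.uniq x y z x' y' z' s' e3
      rw [h.T_zero] at hxyz
      have e4 : T (-a) b (-c) = T a b c := (inv_mul_eq_one.mp hxyz).symm
      obtain ⟨ha, -, hc⟩ := h.T_inj _ _ _ _ _ _ e4
      have e5 : T (-a') b' (-c') * H s = T a' b' c' * H s := by
        rw [e4] at e
        exact mul_left_cancel e
      have e6 : T (-a') b' (-c') = T a' b' c' := mul_right_cancel e5
      obtain ⟨ha', -, hc'⟩ := h.T_inj _ _ _ _ _ _ e6
      have ha0 := hz a ha
      have hc0 := hz c hc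
      have ha0' := hz a' ha'
      have hc0' := hz c' hc'
      subst ha0
      subst hc0
      subst ha0'
      subst hc0'
      exact ⟨b, b', s, rfl⟩
  · rintro (⟨b, s, rfl⟩ | ⟨b, b', s, rfl⟩) x hx
    · rw [Set.mem_singleton_iff] at hx
      subst hx
      calc H (-1) * (T 0 b 0 * H s) = (H (-1) * T 0 b 0) * H s := by group
        _ = T 0 b 0 * (H (-1) * H s) := by rw [hJT0]; group
        _ = T 0 b 0 * H s * H (-1) := by rw [cjmem_JH h]; group
    · rw [Set.mem_singleton_iff] at hx
      subst hx
      calc H (-1) * (T 0 b 0 * w * (T 0 b' 0 * H s))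
          = (H (-1) * T 0 b 0) * w * (T 0 b' 0 * H s) := by group
        _ = T 0 b 0 * (H (-1) * w) * (T 0 b' 0 * H s) := by rw [hJT0]; group
        _ = T 0 b 0 * w * ((H (-1) * T 0 b' 0) * H s) := by rw [cjmem_Jw h]; group
        _ = T 0 b 0 * w * (T 0 b' 0 * (H (-1) * H s)) := by rw [hJT0]; group
        _ = T 0 b 0 * w * (T 0 b' 0 * H s) * H (-1) := by rw [cjmem_JH h]; group

end Cfsg.Agent.Lib.Helper48.RC
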