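import Cfsg.Agent.Lib.Helper61.F15Defs

/-!
# S1615, piece P13a: `mu1_caseA`

If an element `w` of order 3 centralizing `e` is inverted by every neighbour of `e`, then two
non-commuting members of `D` have at most one common neighbour.
-/

set_option autoImplicit false

open Cfsg Cfsg.Agent.Lib.Helper11 Cfsg.Agent.Lib.Helper61.F15

namespace Cfsg.Agent.Lib.Helper78.F15

variable {G : Type*} [Group G] {D : Set G}

theorem mu1_caseA [Finite G] (hP : TTPrim D) (hcoc : Coc D)
    (hW : ∀ b ∈ D, ∀ c ∈ D, (∀ u ∈ D, u ≠ b → Commute u b → u ≠ c ∧ Commute u c) → b = c)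
    (hCP : ∀ u ∈ D, ∀ p ∈ D, ∀ q ∈ D, ¬ Commute p q → Commute u (p * q) →
      Commute u p ∧ Commute u q)
    {e w : G} (he : e ∈ D) (h2 : ∃ p q, p ∈ Dn D e ∧ q ∈ Dn D e ∧ p ≠ q) (hw1 : w ≠ 1)
    (hw3 : w ^ 3 = 1) (hwe : Commute w e) (hinv : ∀ p ∈ Dn D e, p * w * p = w⁻¹) : Mu1 D := by
  have hD := hP.1
  -- Step A: `p' := w p w⁻¹` satisfies `p * p' = w` and does not commute with `p`
  have hA : ∀ p ∈ Dn D e,
      w * p * w⁻¹ ∈ D ∧ p * (w * p * w⁻¹) = w ∧ ¬ Commute p (w * p * w⁻¹) := by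
    intro p hp
    have hpD : p ∈ D := hp.1
    have hp'D : w * p * w⁻¹ ∈ D := tt_conj_mem hD hpD w
    have hprod : p * (w * p * w⁻¹) = w := by
      have h := hinv p hp
      have hwww : w * w * w = 1 := by rw [← hw3, pow_succ, pow_two]
      have h3 : w⁻¹ * w⁻¹ = w := by
        calc w⁻¹ * w⁻¹ = w⁻¹ * w⁻¹ * (w * w * w) := by rw [hwww, mul_one]
          _ = w := by group
      calc p * (w * p * w⁻¹) = (p * w * p) * w⁻¹ := by group
        _ = w⁻¹ * w⁻¹ := by rw [h]
        _ = w := h3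
    refine ⟨hp'D, hprod, ?_⟩
    intro hcomm
    have hsq := tt_sq_of_commute hD hpD hp'D hcomm
    rw [hprod] at hsq
    apply hw1
    have h4 : w ^ 3 = w ^ 2 * w := pow_succ w 2
    rw [hw3, hsq, one_mul] at h4
    exact h4.symm
  -- Step B: a member of `D` commuting with `w` commutes with every neighbour of `e`
  have hBst : ∀ u ∈ D, Commute u w → ∀ p ∈ Dn D e, Commute u p := by
    intro u hu huw p hp
    obtain ⟨hp'D, hprod, hnc⟩ := hA p hp
    exact (hCP u hu p hp.1 _ hp'D hnc (by rw [hprod]; exact huw)).1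
  -- Step C: the only member of `D` commuting with `w` is `e`
  have hC : ∀ u ∈ D, Commute u w → u = e := by
    intro u hu huw
    by_contra hue
    obtain ⟨p0, q0, hp0, hq0, hpq0⟩ := h2
    have hnue : ¬ Commute u e := by
      intro hcomm
      by_cases hup : u = p0
      · have huq : u ≠ q0 := fun h => hpq0 (hup.symm.trans h)
        exact hcoc e he q0 hq0.1 u hu (Ne.symm hq0.2.1) hue huq hq0.2.2 hcomm
          (hBst u hu huw q0 hq0)
      · exact hcoc e he p0 hp0.1 u hu (Ne.symm hp0.2.1) hue hup hp0.2.2 hcomm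
          (hBst u hu huw p0 hp0)
    have heu : e = u := hW e he u hu (fun h hh hhe hhc =>
      ⟨fun heq => hnue (heq ▸ hhc), (hBst u hu huw h ⟨hh, hhe, hhc.symm⟩).symm⟩)
    exact hue heu.symm
  -- Step D: conjugate an arbitrary non-commuting pair to `(b, w b w⁻¹)`
  obtain ⟨p0, q0, hp0, hq0, hpq0⟩ := h2
  obtain ⟨hb'D, hprod, hnc⟩ := hA p0 hp0
  intro p hp q hq hpq u hu u' hu' hup huq hu'p hu'q
  obtain ⟨g, hg1, hg2⟩ := tt_C hP hp hq hp0.1 hb'D hpq hnc
  have key : ∀ v ∈ D, Commute v p → Commute v q → ttcj g v = e := by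
    intro v hv hvp hvq
    apply hC (ttcj g v) (ttcj_mem hD hv g)
    have h1 : Commute (ttcj g v) p0 := by
      rw [← hg1]
      exact (ttcj_commute_iff g v p).mpr hvp
    have h2' : Commute (ttcj g v) (w * p0 * w⁻¹) := by
      rw [← hg2]
      exact (ttcj_commute_iff g v q).mpr hvq
    rw [← hprod]
    exact h1.mul_right h2'
  exact ttcj_inj ((key u hu hup huq).trans (key u' hu' hu'p hu'q).symm)

end Cfsg.Agent.Lib.Helper78.F15
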