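import Mathlib

/-!
# Piece CYC of the S3787 project (helper17): a cyclic nilpotent block modulo an invariant
subspace
-/

set_option autoImplicit false

namespace Cfsg.Agent.Lib.Helper78

universe u v

theorem s3787_cyc_pow_mem {p : ℕ} {V : Type v} [AddCommGroup V] [Module (ZMod p) V]
    (T : Module.End (ZMod p) V) (C : Submodule (ZMod p) V) (hTC : ∀ u ∈ C, T u ∈ C) (k : ℕ) :
    ∀ u ∈ C, (T ^ k) u ∈ C := by
  induction k with
  | zero => intro u hu; simpa using hu
  | succ k ih =>
    intro u hu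
    rw [pow_succ, Module.End.mul_apply]
    exact ih _ (hTC u hu)

theorem s3787_cyc_key (p : ℕ) [Fact p.Prime] {V : Type v} [AddCommGroup V] [Module (ZMod p) V]
    (T : Module.End (ZMod p) V) (hT : T ^ p = 0) (C : Submodule (ZMod p) V)
    (hTC : ∀ u ∈ C, T u ∈ C) (v : V) (hv : (T ^ (p - 1)) v ∉ C) (e : ℕ)
    (a : Fin p → ZMod p) (h : ∑ i : Fin p, a i • (T ^ ((i : ℕ) + e)) v ∈ C) :
    ∀ j : Fin p, (j : ℕ) + e ≤ p - 1 → a j = 0 := by
  suffices H : ∀ n : ℕ, ∀ j : Fin p, (j : ℕ) = n → (j : ℕ) + e ≤ p - 1 → a j = 0 from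
    fun j hj => H j j rfl hj
  intro n
  induction n using Nat.strong_induction_on with
  | _ n ih =>
    intro j hjn hje
    by_contra haj
    have hC := s3787_cyc_pow_mem T C hTC (p - 1 - n - e) _ h
    rw [map_sum] at hC
    have hsum : ∑ i : Fin p, (T ^ (p - 1 - n - e)) (a i • (T ^ ((i : ℕ) + e)) v) =
        a j • (T ^ (p - 1)) v := by
      rw [Finset.sum_eq_single j]
      · rw [map_smul, ← Module.End.mul_apply, ← pow_add]
        have hexp : p - 1 - n - e + ((j : ℕ) + e) = p - 1 := by omega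
        rw [hexp]
      · intro i _ hij
        have hij' : (i : ℕ) ≠ (j : ℕ) := fun h => hij (Fin.ext h)
        rcases lt_or_gt_of_ne hij' with hlt | hgt
        · rw [ih (i : ℕ) (by omega) i rfl (by omega), zero_smul, map_zero]
        · rw [map_smul, ← Module.End.mul_apply, ← pow_add]
          have hexp : p - 1 - n - e + ((i : ℕ) + e) = p + ((i : ℕ) - n - 1) := by
            have := i.2
            omega
          rw [hexp, pow_add, hT, zero_mul, LinearMap.zero_apply, smul_zero]
      · intro hj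
        exact absurd (Finset.mem_univ j) hj
    rw [hsum] at hC
    apply hv
    have := C.smul_mem (a j)⁻¹ hC
    rwa [smul_smul, inv_mul_cancel₀ haj, one_smul] at this

theorem s3787_cyc (p : ℕ) [Fact p.Prime] {V : Type v} [AddCommGroup V] [Module (ZMod p) V]
    [Finite V] (T : Module.End (ZMod p) V) (hT : T ^ p = 0) (C : Submodule (ZMod p) V)
    (hTC : ∀ u ∈ C, T u ∈ C) (v : V) (hv : (T ^ (p - 1)) v ∉ C) :
    ∃ U : Submodule (ZMod p) V, C ≤ U ∧ (∀ u ∈ U, T u ∈ U) ∧
      Nat.card U = p ^ p * Nat.card C ∧ Nat.card ↥(U ⊓ C.comap T) = p * Nat.card C := by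
  classical
  have hp : p.Prime := Fact.out
  have hp1 : 1 ≤ p := hp.one_le
  -- the parametrisation
  have hgU : ∀ x : ↥C × (Fin p → ZMod p),
      (x.1 : V) + ∑ i : Fin p, x.2 i • (T ^ (i : ℕ)) v ∈
        C ⊔ Submodule.span (ZMod p) (Set.range fun i : Fin p => (T ^ (i : ℕ)) v) := fun x =>
    Submodule.add_mem _ (Submodule.mem_sup_left x.1.2)
      (Submodule.mem_sup_right ((Submodule.mem_span_range_iff_exists_fun _).2 ⟨x.2, rfl⟩))
  have hΦsurj : ∀ u ∈ C ⊔ Submodule.span (ZMod p) (Set.range fun i : Fin p => (T ^ (i : ℕ)) v),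
      ∃ x : ↥C × (Fin p → ZMod p), (x.1 : V) + ∑ i : Fin p, x.2 i • (T ^ (i : ℕ)) v = u := by
    intro u hu
    obtain ⟨y, hy, z, hz, rfl⟩ := Submodule.mem_sup.1 hu
    obtain ⟨a, rfl⟩ := (Submodule.mem_span_range_iff_exists_fun _).1 hz
    exact ⟨(⟨y, hy⟩, a), rfl⟩
  have hkey0 : ∀ a : Fin p → ZMod p, ∑ i : Fin p, a i • (T ^ (i : ℕ)) v ∈ C → a = 0 := by
    intro a ha
    funext j
    exact s3787_cyc_key p T hT C hTC v hv 0 a (by simpa using ha) j (by have := j.2; omega)
  have hΦinj : ∀ x y : ↥C × (Fin p → ZMod p),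
      (x.1 : V) + ∑ i : Fin p, x.2 i • (T ^ (i : ℕ)) v =
        (y.1 : V) + ∑ i : Fin p, y.2 i • (T ^ (i : ℕ)) v → x = y := by
    rintro ⟨c₁, a₁⟩ ⟨c₂, a₂⟩ h
    have h' : (c₁ : V) + ∑ i : Fin p, a₁ i • (T ^ (i : ℕ)) v =
        (c₂ : V) + ∑ i : Fin p, a₂ i • (T ^ (i : ℕ)) v := h
    have h1 : ∑ i : Fin p, (a₁ - a₂) i • (T ^ (i : ℕ)) v = (c₂ : V) - (c₁ : V) := by
      simp only [Pi.sub_apply, sub_smul, Finset.sum_sub_distrib]
      rw [sub_eq_sub_iff_add_eq_add, add_comm]
      exact h'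
    have h2 : a₁ - a₂ = 0 := hkey0 _ (by rw [h1]; exact C.sub_mem c₂.2 c₁.2)
    have h3 : a₁ = a₂ := sub_eq_zero.1 h2
    subst h3
    have h4 : (c₁ : V) = c₂ := add_right_cancel h'
    exact Prod.ext (Subtype.ext h4) rfl
  refine ⟨C ⊔ Submodule.span (ZMod p) (Set.range fun i : Fin p => (T ^ (i : ℕ)) v),
    le_sup_left, ?_, ?_, ?_⟩
  · -- invariance
    intro u hu
    have hle : C ⊔ Submodule.span (ZMod p) (Set.range fun i : Fin p => (T ^ (i : ℕ)) v) ≤
        (C ⊔ Submodule.span (ZMod p) (Set.range fun i : Fin p => (T ^ (i : ℕ)) v)).comap T := by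
      apply sup_le
      · intro c hc
        exact Submodule.mem_sup_left (hTC c hc)
      · rw [Submodule.span_le]
        rintro _ ⟨i, rfl⟩
        show T ((T ^ (i : ℕ)) v) ∈
          C ⊔ Submodule.span (ZMod p) (Set.range fun i : Fin p => (T ^ (i : ℕ)) v)
        have h1 : T ((T ^ (i : ℕ)) v) = (T ^ ((i : ℕ) + 1)) v := by
          rw [pow_succ', Module.End.mul_apply]
        rw [h1]
        by_cases hi : (i : ℕ) + 1 < p
        · exact Submodule.mem_sup_right (Submodule.subset_span ⟨⟨(i : ℕ) + 1, hi⟩, rfl⟩)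
        · have hip : (i : ℕ) + 1 = p := by
            have := i.2
            omega
          rw [hip, hT]
          exact Submodule.zero_mem _
    exact hle hu
  · -- card U
    have e : ↥C × (Fin p → ZMod p) ≃
        ↥(C ⊔ Submodule.span (ZMod p) (Set.range fun i : Fin p => (T ^ (i : ℕ)) v)) :=
      Equiv.ofBijective (fun x => ⟨_, hgU x⟩)
        ⟨fun x y h => hΦinj x y (congrArg Subtype.val h), fun u => by
          obtain ⟨x, hx⟩ := hΦsurj u.1 u.2
          exact ⟨x, Subtype.ext hx⟩⟩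
    rw [← Nat.card_congr e, Nat.card_prod, Nat.card_eq_fintype_card (α := Fin p → ZMod p),
      Fintype.card_fun, ZMod.card, Fintype.card_fin, mul_comm]
  · -- card of U ⊓ C.comap T
    have hpl : p - 1 < p := by omega
    have hcomap : ∀ x : ↥C × (Fin p → ZMod p),
        T ((x.1 : V) + ∑ i : Fin p, x.2 i • (T ^ (i : ℕ)) v) ∈ C ↔
          ∀ j : Fin p, (j : ℕ) + 1 ≤ p - 1 → x.2 j = 0 := by
      intro x
      have hT1 : T ((x.1 : V) + ∑ i : Fin p, x.2 i • (T ^ (i : ℕ)) v) =
          T (x.1 : V) + ∑ i : Fin p, x.2 i • (T ^ ((i : ℕ) + 1)) v := by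
        rw [map_add, map_sum]
        congr 1
        apply Finset.sum_congr rfl
        intro i _
        rw [map_smul, pow_succ', Module.End.mul_apply]
      rw [hT1]
      constructor
      · intro h
        have h2 : ∑ i : Fin p, x.2 i • (T ^ ((i : ℕ) + 1)) v ∈ C := by
          have := C.sub_mem h (hTC _ x.1.2)
          rwa [add_sub_cancel_left] at this
        exact s3787_cyc_key p T hT C hTC v hv 1 x.2 h2
      · intro h
        have h2 : ∑ i : Fin p, x.2 i • (T ^ ((i : ℕ) + 1)) v = 0 := by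
          apply Finset.sum_eq_zero
          intro i _
          by_cases hi : (i : ℕ) + 1 ≤ p - 1
          · rw [h i hi, zero_smul]
          · have hip : (i : ℕ) + 1 = p := by
              have := i.2
              omega
            rw [hip, hT, LinearMap.zero_apply, smul_zero]
        rw [h2, add_zero]
        exact hTC _ x.1.2
    have e : ↥C × ZMod p ≃
        ↥((C ⊔ Submodule.span (ZMod p) (Set.range fun i : Fin p => (T ^ (i : ℕ)) v)) ⊓
          C.comap T) :=
      Equiv.ofBijective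
        (fun x => ⟨(x.1 : V) + ∑ i : Fin p,
            (Pi.single (⟨p - 1, hpl⟩ : Fin p) x.2 : Fin p → ZMod p) i • (T ^ (i : ℕ)) v,
          ⟨hgU (x.1, Pi.single (⟨p - 1, hpl⟩ : Fin p) x.2),
            (hcomap (x.1, Pi.single (⟨p - 1, hpl⟩ : Fin p) x.2)).2 (by
              intro j hj
              have hne : j ≠ (⟨p - 1, hpl⟩ : Fin p) := by
                intro h
                rw [h] at hj
                simp at hj
              exact Pi.single_eq_of_ne hne _)⟩⟩)
        ⟨by
          intro x y h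
          have h1 := hΦinj (x.1, Pi.single (⟨p - 1, hpl⟩ : Fin p) x.2)
            (y.1, Pi.single (⟨p - 1, hpl⟩ : Fin p) y.2) (congrArg Subtype.val h)
          have h2 : x.1 = y.1 := (Prod.mk.inj h1).1
          have h3 : (Pi.single (⟨p - 1, hpl⟩ : Fin p) x.2 : Fin p → ZMod p) =
              Pi.single (⟨p - 1, hpl⟩ : Fin p) y.2 := (Prod.mk.inj h1).2
          exact Prod.ext h2 (Pi.single_injective (⟨p - 1, hpl⟩ : Fin p) h3), by
          intro u
          obtain ⟨x, hx⟩ := hΦsurj u.1 u.2.1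
          have hux : T ((x.1 : V) + ∑ i : Fin p, x.2 i • (T ^ (i : ℕ)) v) ∈ C := by
            rw [hx]
            exact u.2.2
          have hP := (hcomap x).1 hux
          have hxs : x.2 = Pi.single (⟨p - 1, hpl⟩ : Fin p) (x.2 ⟨p - 1, hpl⟩) := by
            funext j
            by_cases hj : j = (⟨p - 1, hpl⟩ : Fin p)
            · rw [hj, Pi.single_eq_same]
            · rw [Pi.single_eq_of_ne hj]
              apply hP
              have hj' : (j : ℕ) ≠ p - 1 := fun h => hj (Fin.ext h)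
              have := j.2
              omega
          refine ⟨(x.1, x.2 ⟨p - 1, hpl⟩), Subtype.ext ?_⟩
          show (x.1 : V) + ∑ i : Fin p,
            (Pi.single (⟨p - 1, hpl⟩ : Fin p) (x.2 ⟨p - 1, hpl⟩) : Fin p → ZMod p) i •
              (T ^ (i : ℕ)) v = u.1
          rw [← hxs]
          exact hx⟩
    rw [← Nat.card_congr e, Nat.card_prod, Nat.card_zmod, mul_comm]

end Cfsg.Agent.Lib.Helper78
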